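import Groth.Agent.HomShExact.InjOver
import Groth.Prelude.Def_CGrpSh2
import Mathlib.Algebra.Homology.ShortComplex.ShortExact
import Mathlib.Algebra.Homology.ShortComplex.Ab
import Mathlib.CategoryTheory.Abelian.RightDerived
import Mathlib.CategoryTheory.Sites.EpiMono

/-!
# Exactness of the internal Hom of abelian sheaves in the first variable

The internal Hom turns right exact sequences into left exact ones; if the first local Ext sheaf of the
quotient vanishes, the dual of a short exact sequence is short exact.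
-/

set_option autoImplicit false
universe u

open CategoryTheory CategoryTheory.Limits Opposite

namespace Groth.Agent.HomShExact

variable {C : Type (u + 1)} [Category.{u} C] {J : GrothendieckTopology C}

theorem isLocallySurjective_over {F G : Sheaf J AddCommGrpCat.{u + 1}} (g : F ⟶ G)
    [Sheaf.IsLocallySurjective g] (X : C) :
    Sheaf.IsLocallySurjective ((J.overPullback _ X).map g) := by
  refine ⟨@fun T s => ?_⟩
  have h : Presheaf.imageSieve g.hom s ∈ J T.left := Presheaf.imageSieve_mem J g.hom s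
  refine GrothendieckTopology.superset_covering _ ?_
    (GrothendieckTopology.overEquiv_symm_mem_over J T _ h)
  intro W v hv
  rw [Sieve.overEquiv_symm_iff] at hv
  exact hv

section

variable [HasSheafify J AddCommGrpCat.{u + 1}]
  [∀ X : C, HasSheafify (J.over X) AddCommGrpCat.{u + 1}]
  [J.WEqualsLocallyBijective AddCommGrpCat.{u + 1}]
  [∀ X : C, (J.over X).WEqualsLocallyBijective AddCommGrpCat.{u + 1}]

instance preservesFiniteLimits_overPullback (X : C) :
    PreservesFiniteLimits (J.overPullback AddCommGrpCat.{u + 1} X) :=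
  have : PreservesFiniteLimits (J.overPullback AddCommGrpCat.{u + 1} X ⋙ sheafToPresheaf (J.over X) _) :=
    inferInstanceAs (PreservesFiniteLimits
      (sheafToPresheaf J AddCommGrpCat.{u + 1} ⋙ (Functor.whiskeringLeft _ _ _).obj (Over.forget X).op))
  preservesFiniteLimits_of_reflects_of_preserves _ (sheafToPresheaf (J.over X) _)

theorem shortExact_over {S : ShortComplex (Sheaf J AddCommGrpCat.{u + 1})} (hS : S.ShortExact) (X : C) :
    (S.map (J.overPullback AddCommGrpCat.{u + 1} X)).ShortExact := by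
  haveI := hS.mono_f
  haveI := hS.epi_g
  haveI : Sheaf.IsLocallySurjective S.g := (Sheaf.isLocallySurjective_iff_epi' (A := AddCommGrpCat.{u + 1}) _).2 inferInstance
  haveI := isLocallySurjective_over S.g X
  haveI : Epi ((J.overPullback AddCommGrpCat.{u + 1} X).map S.g) :=
    (Sheaf.isLocallySurjective_iff_epi' (A := AddCommGrpCat.{u + 1}) _).1 inferInstance
  have hm : Mono ((J.overPullback AddCommGrpCat.{u + 1} X).map S.f) := inferInstance
  refine ShortComplex.ShortExact.mk' ?_ hm this
  exact ShortComplex.exact_of_f_is_kernel _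
    (KernelFork.mapIsLimit _ hS.fIsKernel (J.overPullback AddCommGrpCat.{u + 1} X))

/-- In an exact sequence of sheaves, cocycles are locally boundaries. -/
theorem imageSieve_mem_of_exact {S : ShortComplex (Sheaf J AddCommGrpCat.{u + 1})} (hS : S.Exact) (X : C)
    (z : ToType (S.X₂.obj.obj (op X))) (hz : S.g.hom.app (op X) z = 0) :
    Presheaf.imageSieve S.f.hom z ∈ J X := by
  let E : Sheaf J AddCommGrpCat.{u + 1} ⥤ AddCommGrpCat.{u + 1} :=
    sheafToPresheaf J _ ⋙ (evaluation _ _).obj (op X)
  haveI : E.PreservesZeroMorphisms := ⟨fun _ _ => rfl⟩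
  let T : ShortComplex (Sheaf J AddCommGrpCat.{u + 1}) :=
    ShortComplex.mk (kernel.ι S.g) S.g (kernel.condition _)
  have hT : T.Exact := ShortComplex.exact_of_f_is_kernel T (kernelIsKernel S.g)
  have hT' : (T.map E).Exact := hT.map_of_mono_of_preservesKernel E inferInstance inferInstance
  obtain ⟨w, rfl⟩ := (ShortComplex.ab_exact_iff _).1 hT' z hz
  haveI : Epi (kernel.lift S.g S.f S.zero) := hS.epi_kernelLift
  haveI : Sheaf.IsLocallySurjective (kernel.lift S.g S.f S.zero) :=
    (Sheaf.isLocallySurjective_iff_epi' (A := AddCommGrpCat.{u + 1}) _).2 inferInstance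
  refine GrothendieckTopology.superset_covering _ ?_
    (Presheaf.imageSieve_mem J (kernel.lift S.g S.f S.zero).hom w)
  rintro Y v ⟨t, ht⟩
  refine ⟨t, ?_⟩
  have e : S.f = kernel.lift S.g S.f S.zero ≫ kernel.ι S.g := (kernel.lift_ι _ _ _).symm
  refine Eq.trans ?_ (congr(($((kernel.ι S.g).hom.naturality v.op)) w))
  refine Eq.trans (congr(($e).hom.app (op Y) t)) ?_
  exact congrArg ((kernel.ι S.g).hom.app (op Y)) ht

/-- The internal Hom into a sheaf turns a right exact sequence into a left exact one. -/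
theorem exact_mono_homSh {S : ShortComplex (Sheaf J AddCommGrpCat.{u + 1})} (hS : S.ShortExact)
    (M : Sheaf J AddCommGrpCat.{u + 1}) :
    ∃ w : HomSh.homShMap J S.g (𝟙 M) ≫ HomSh.homShMap J S.f (𝟙 M) = 0,
      (ShortComplex.mk _ _ w).Exact ∧ Mono (HomSh.homShMap J S.g (𝟙 M)) := by
  have w : HomSh.homShMap J S.g (𝟙 M) ≫ HomSh.homShMap J S.f (𝟙 M) = 0 := by
    rw [← HomSh.homShMap_comp, S.zero]
    exact ((HomSh.homShBi J).flip.obj M).map_zero (op S.X₃) (op S.X₁)
  have hcancel : ∀ (T : C) (φ ψ : S.X₃.over T ⟶ M.over T),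
      (HomSh.homShMap J S.g (𝟙 M)).hom.app (op T) φ = (HomSh.homShMap J S.g (𝟙 M)).hom.app (op T) ψ → φ = ψ := by
    intro T φ ψ h
    haveI : Epi ((J.overPullback AddCommGrpCat.{u + 1} T).map S.g) := (shortExact_over hS T).epi_g
    simp only [HomSh.homShMap_app_apply, CategoryTheory.Functor.map_id, Category.comp_id] at h
    exact (cancel_epi ((J.overPullback AddCommGrpCat.{u + 1} T).map S.g)).1 h
  haveI hmono : Mono (HomSh.homShMap J S.g (𝟙 M)) := by
    refine (sheafToPresheaf _ _).mono_of_mono_map (@NatTrans.mono_of_mono_app _ _ _ _ _ _ _ fun T => ?_)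
    rw [AddCommGrpCat.mono_iff_injective]
    exact fun φ ψ h => hcancel T.unop φ ψ h
  refine ⟨w, ShortComplex.exact_of_f_is_kernel _ ?_, hmono⟩
  have hk : ∀ (T : C) (φ : S.X₂.over T ⟶ M.over T),
      (HomSh.homShMap J S.f (𝟙 M)).hom.app (op T) φ = 0 →
      ∃ χ : S.X₃.over T ⟶ M.over T, (HomSh.homShMap J S.g (𝟙 M)).hom.app (op T) χ = φ := by
    intro T φ hφ
    simp only [HomSh.homShMap_app_apply, CategoryTheory.Functor.map_id, Category.comp_id] at hφ
    have hT := shortExact_over hS T
    haveI : Epi (S.map (J.overPullback AddCommGrpCat.{u + 1} T)).g := hT.epi_g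
    refine ⟨hT.exact.desc φ hφ, ?_⟩
    simp only [HomSh.homShMap_app_apply, CategoryTheory.Functor.map_id, Category.comp_id]
    exact hT.exact.g_desc φ hφ
  refine @KernelFork.IsLimit.ofι' _ _ _ _ _ _ _ _ w (fun {A} a ha => ?_) hmono
  choose n hn using fun (T : Cᵒᵖ) (x : A.obj.obj T) => hk T.unop (a.hom.app T x)
    (congr(($ha).hom.app T x))
  refine ⟨⟨{
      app := fun T => AddCommGrpCat.ofHom
        { toFun := n T
          map_zero' := hcancel _ _ _ (by rw [hn, map_zero]; exact (map_zero _).symm)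
          map_add' := fun x y => hcancel _ _ _ ((hn T _).trans
            ((map_add _ x y).trans (((congrArg₂ (· + ·) (hn T x).symm (hn T y).symm)).trans (map_add _ _ _).symm))) }
      naturality := fun T T' t => by
        ext x
        refine hcancel _ _ _ ((hn T' _).trans ?_)
        refine (congr(($(a.hom.naturality t)) x)).trans ?_
        refine (congrArg ((HomSh.homSh J S.X₂ M).obj.map t) (hn T x).symm).trans ?_
        exact (congr(($((HomSh.homShMap J S.g (𝟙 M)).hom.naturality t)) (n T x))).symm }⟩, ?_⟩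
  exact Sheaf.hom_ext (NatTrans.ext (funext fun T => AddCommGrpCat.ext fun x => hn T x))

/-- If the first local Ext sheaf of the quotient vanishes, restriction of homomorphisms to the
subsheaf is locally surjective. -/
theorem epi_homShMap [HasInjectiveResolutions (Sheaf J AddCommGrpCat.{u + 1})]
    {S : ShortComplex (Sheaf J AddCommGrpCat.{u + 1})} (hS : S.ShortExact)
    (M : Sheaf J AddCommGrpCat.{u + 1}) (hExt : IsZero ((HomSh.extSh J S.X₃ 1).obj M)) :
    Epi (HomSh.homShMap J S.f (𝟙 M)) := by
  let R := injectiveResolution M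
  -- exactness of the internal Homs from the quotient into the resolution
  let cx := ((HomSh.homShFunctor J S.X₃).mapHomologicalComplex (ComplexShape.up ℕ)).obj R.cocomplex
  have hz : IsZero (cx.homology 1) := by
    rw [HomSh.extSh_def] at hExt
    exact hExt.of_iso (R.isoRightDerivedObj (HomSh.homShFunctor J S.X₃) 1).symm
  have hex : (cx.sc' 0 1 2).Exact := by
    rw [← HomologicalComplex.exactAt_iff' cx 0 1 2 (by simp) (by simp)]
    exact (cx.exactAt_iff_isZero_homology 1).2 hz
  let ι₀ : M ⟶ R.cocomplex.X 0 := R.ι.f 0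
  haveI : Sheaf.IsLocallySurjective (HomSh.homShMap J S.f (𝟙 M)) := ⟨fun {X} (φ : S.X₁.over X ⟶ M.over X) => by
    have hT := shortExact_over hS X
    haveI : Mono ((J.overPullback AddCommGrpCat.{u + 1} X).map S.f) := hT.mono_f
    haveI : Epi ((J.overPullback AddCommGrpCat.{u + 1} X).map S.g) := hT.epi_g
    haveI : Epi (S.map (J.overPullback AddCommGrpCat.{u + 1} X)).g := hT.epi_g
    haveI : Injective ((R.cocomplex.X 0).over X) := injective_over X (R.cocomplex.X 0)
    -- extend into the injective sheaf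
    let ψ : S.X₂.over X ⟶ (R.cocomplex.X 0).over X := Injective.factorThru
      (φ ≫ (J.overPullback AddCommGrpCat.{u + 1} X).map ι₀) ((J.overPullback AddCommGrpCat.{u + 1} X).map S.f)
    have hψ : (J.overPullback AddCommGrpCat.{u + 1} X).map S.f ≫ ψ =
        φ ≫ (J.overPullback AddCommGrpCat.{u + 1} X).map ι₀ := Injective.comp_factorThru _ _
    have hψd : (S.map (J.overPullback AddCommGrpCat.{u + 1} X)).f ≫
        (ψ ≫ (J.overPullback AddCommGrpCat.{u + 1} X).map (R.cocomplex.d 0 1)) = 0 := by
      refine (Category.assoc _ _ _).symm.trans ((congrArg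
        (· ≫ (J.overPullback AddCommGrpCat.{u + 1} X).map (R.cocomplex.d 0 1)) hψ).trans
        ((Category.assoc _ _ _).trans ?_))
      have h0 : (J.overPullback AddCommGrpCat.{u + 1} X).map ι₀ ≫
          (J.overPullback AddCommGrpCat.{u + 1} X).map (R.cocomplex.d 0 1) = 0 := by
        rw [← Functor.map_comp, show ι₀ ≫ R.cocomplex.d 0 1 = 0 from R.ι_f_zero_comp_complex_d,
          Functor.map_zero]
      exact (congrArg (φ ≫ ·) h0).trans comp_zero
    let χ : S.X₃.over X ⟶ (R.cocomplex.X 1).over X := hT.exact.desc _ hψd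
    have hχ : (J.overPullback AddCommGrpCat.{u + 1} X).map S.g ≫ χ =
        ψ ≫ (J.overPullback AddCommGrpCat.{u + 1} X).map (R.cocomplex.d 0 1) := hT.exact.g_desc _ hψd
    have hχd : (cx.sc' 0 1 2).g.hom.app (op X) χ = 0 := by
      show (J.overPullback _ X).map (𝟙 S.X₃) ≫ χ ≫ (J.overPullback _ X).map (R.cocomplex.d 1 2) = 0
      rw [CategoryTheory.Functor.map_id, Category.id_comp,
        ← cancel_epi ((J.overPullback AddCommGrpCat.{u + 1} X).map S.g), ← Category.assoc, hχ,
        Category.assoc, ← Functor.map_comp, R.cocomplex.d_comp_d, Functor.map_zero, comp_zero]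
      exact comp_zero.symm
    refine GrothendieckTopology.superset_covering _ ?_ (imageSieve_mem_of_exact hex X χ hχd)
    rintro Y v ⟨(θ : S.X₃.over Y ⟶ (R.cocomplex.X 0).over Y), hθ⟩
    have hθ' : θ ≫ (J.overPullback AddCommGrpCat.{u + 1} Y).map (R.cocomplex.d 0 1) =
        (J.overMapPullback AddCommGrpCat.{u + 1} v).map χ := by
      refine Eq.trans ?_ hθ
      show _ = (J.overPullback _ Y).map (𝟙 S.X₃) ≫ θ ≫ _
      rw [CategoryTheory.Functor.map_id, Category.id_comp]
    let P := J.overMapPullback AddCommGrpCat.{u + 1} v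
    let K : ShortComplex (Sheaf J AddCommGrpCat.{u + 1}) :=
      ShortComplex.mk ι₀ (R.cocomplex.d 0 1) R.ι_f_zero_comp_complex_d
    have hKe : K.Exact := R.exact₀
    haveI : Mono K.f := (inferInstance : Mono (R.ι.f 0))
    have hKY : (K.map (J.overPullback AddCommGrpCat.{u + 1} Y)).Exact :=
      hKe.map_of_mono_of_preservesKernel _ inferInstance inferInstance
    haveI : Mono (K.map (J.overPullback AddCommGrpCat.{u + 1} Y)).f :=
      (inferInstance : Mono ((J.overPullback AddCommGrpCat.{u + 1} Y).map K.f))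
    let ψY : S.X₂.over Y ⟶ (R.cocomplex.X 0).over Y := P.map ψ
    let δ : S.X₂.over Y ⟶ (R.cocomplex.X 0).over Y :=
      ψY - (J.overPullback AddCommGrpCat.{u + 1} Y).map S.g ≫ θ
    have hδ : δ ≫ (K.map (J.overPullback AddCommGrpCat.{u + 1} Y)).g = 0 := by
      show (ψY - _) ≫ (J.overPullback AddCommGrpCat.{u + 1} Y).map (R.cocomplex.d 0 1) = 0
      rw [Preadditive.sub_comp, Category.assoc, hθ', sub_eq_zero]
      show P.map ψ ≫ P.map ((J.overPullback AddCommGrpCat.{u + 1} X).map (R.cocomplex.d 0 1)) =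
        P.map ((J.overPullback AddCommGrpCat.{u + 1} X).map S.g) ≫ P.map χ
      exact ((P.map_comp _ _).symm.trans (congrArg P.map hχ.symm)).trans (P.map_comp _ _)
    let ρ : S.X₂.over Y ⟶ M.over Y := hKY.lift δ hδ
    refine ⟨ρ, ?_⟩
    show (J.overPullback _ Y).map S.f ≫ ρ ≫ (J.overPullback _ Y).map (𝟙 M) = P.map φ
    rw [CategoryTheory.Functor.map_id, Category.comp_id]
    refine (cancel_mono (K.map (J.overPullback AddCommGrpCat.{u + 1} Y)).f).1 ?_
    refine (Category.assoc _ _ _).trans ?_
    refine (congrArg (fun m => (J.overPullback AddCommGrpCat.{u + 1} Y).map S.f ≫ m) (hKY.lift_f δ hδ)).trans ?_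
    have h0 : (J.overPullback AddCommGrpCat.{u + 1} Y).map S.f ≫
        (J.overPullback AddCommGrpCat.{u + 1} Y).map S.g ≫ θ = 0 := by
      rw [← Category.assoc, ← Functor.map_comp, S.zero, Functor.map_zero, zero_comp]
    refine ((Preadditive.comp_sub _ ψY _).trans ((congrArg (_ - ·) h0).trans (sub_zero _))).trans ?_
    show P.map ((J.overPullback AddCommGrpCat.{u + 1} X).map S.f) ≫ P.map ψ =
      P.map φ ≫ P.map ((J.overPullback AddCommGrpCat.{u + 1} X).map ι₀)
    exact ((P.map_comp _ _).symm.trans (congrArg P.map hψ)).trans (P.map_comp _ _)⟩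
  exact (Sheaf.isLocallySurjective_iff_epi' (A := AddCommGrpCat.{u + 1}) _).1 inferInstance

/-- Naturality of the double-duality map. -/
theorem bidualMap_naturality {F G : Sheaf J AddCommGrpCat.{u + 1}} (M : Sheaf J AddCommGrpCat.{u + 1})
    (α : F ⟶ G) :
    HomSh.bidualMap J F M ≫ HomSh.homShMap J (HomSh.homShMap J α (𝟙 M)) (𝟙 M) =
      α ≫ HomSh.bidualMap J G M := by
  refine Sheaf.hom_ext (NatTrans.ext (funext fun X => AddCommGrpCat.ext fun s => ?_))
  refine Sheaf.hom_ext (NatTrans.ext (funext fun U => AddCommGrpCat.ext fun φ => ?_))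
  change HomSh.ev J ((J.overPullback _ U.unop.left).map α ≫ φ ≫ (J.overPullback _ U.unop.left).map (𝟙 M))
      (F.obj.map U.unop.hom.op s) =
    HomSh.ev J φ (G.obj.map U.unop.hom.op (α.hom.app X s))
  rw [CategoryTheory.Functor.map_id]
  refine (congrArg (fun z => HomSh.ev J ((J.overPullback AddCommGrpCat.{u + 1} U.unop.left).map α ≫ z)
    (F.obj.map U.unop.hom.op s)) (Category.comp_id φ)).trans ?_
  exact congrArg (HomSh.ev J φ) (congr(($(α.hom.naturality U.unop.hom.op)) s))

/-- The double dual of an extension: if the two ends are reflexive and the local Ext sheaf of the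
quotient vanishes, the middle is reflexive. -/
theorem isIso_bidualMap_of_shortExact [HasInjectiveResolutions (Sheaf J AddCommGrpCat.{u + 1})]
    {S : ShortComplex (Sheaf J AddCommGrpCat.{u + 1})} (hS : S.ShortExact)
    (M : Sheaf J AddCommGrpCat.{u + 1}) (hExt : IsZero ((HomSh.extSh J S.X₃ 1).obj M))
    [IsIso (HomSh.bidualMap J S.X₁ M)] [IsIso (HomSh.bidualMap J S.X₃ M)] :
    IsIso (HomSh.bidualMap J S.X₂ M) := by
  obtain ⟨w, hex, hmono⟩ := exact_mono_homSh hS M
  haveI := hmono
  haveI := epi_homShMap hS M hExt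
  have hD : (ShortComplex.mk _ _ w).ShortExact :=
    ShortComplex.ShortExact.mk' hex hmono (epi_homShMap hS M hExt)
  obtain ⟨w', hex', hmono'⟩ := exact_mono_homSh hD M
  let D := ShortComplex.mk _ _ w'
  let φ : S ⟶ D :=
    { τ₁ := HomSh.bidualMap J S.X₁ M
      τ₂ := HomSh.bidualMap J S.X₂ M
      τ₃ := HomSh.bidualMap J S.X₃ M
      comm₁₂ := bidualMap_naturality M S.f
      comm₂₃ := bidualMap_naturality M S.g }
  haveI := hS.epi_g
  have hepi : Epi D.g := by
    haveI : Epi (φ.τ₂ ≫ D.g) := by
      rw [φ.comm₂₃]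
      exact epi_comp S.g (HomSh.bidualMap J S.X₃ M)
    exact epi_of_epi φ.τ₂ D.g
  exact ShortComplex.isIso₂_of_shortExact_of_isIso₁₃' φ hS
    (ShortComplex.ShortExact.mk' hex' hmono' hepi) inferInstance inferInstance

end

end Groth.Agent.HomShExact
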